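import Mathlib
import Groth.Prelude.Def_W4c3degenlocivbPfaff

/-!
Principal sub-Pfaffians of a general alternating matrix of binary linear forms span the binary forms.
-/

set_option autoImplicit false

universe u

open W4c3degenlocivb

namespace Groth.Agent.PfaffSpan

/-- `pf` commutes with ring maps. -/
theorem map_pf {R S : Type*} [CommRing R] [CommRing S] (f : R →+* S) :
    ∀ (n : ℕ) (T : Matrix (Fin n) (Fin n) R), f (pf n T) = pf n (T.map f)
  | 0, _ => map_one f
  | 1, _ => map_zero f
  | n + 2, T => by
    simp only [pf, map_sum, map_mul, map_pow, map_neg, map_one, map_pf f n, Matrix.submatrix_map,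
      Matrix.map_apply]

/-- The degree of the Pfaffian of a matrix of linear forms. -/
theorem isHomogeneous_pf {σ R : Type*} [CommRing R] :
    ∀ (m : ℕ) (T : Matrix (Fin (2 * m)) (Fin (2 * m)) (MvPolynomial σ R)),
      (∀ i j, (T i j).IsHomogeneous 1) → (pf (2 * m) T).IsHomogeneous m
  | 0, _, _ => MvPolynomial.isHomogeneous_one σ R
  | m + 1, T, h => by
    show (pf (2 * m + 2) T).IsHomogeneous (m + 1)
    rw [pf]
    refine MvPolynomial.IsHomogeneous.sum _ _ _ fun j _ => ?_
    rw [show m + 1 = (0 + 1) + m by omega]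
    refine (MvPolynomial.IsHomogeneous.mul ?_ (h _ _)).mul (isHomogeneous_pf m _ fun a b => h _ _)
    rw [show ((-1 : MvPolynomial σ R) ^ ((j : ℕ) + 1)) = MvPolynomial.C ((-1) ^ ((j : ℕ) + 1)) by simp]
    exact MvPolynomial.isHomogeneous_C σ _

/-- The Pfaffian of a matrix vanishing below the first subdiagonal. -/
theorem pf_hessenberg {R : Type*} [CommRing R] :
    ∀ (m : ℕ) (T : Matrix (Fin (2 * m)) (Fin (2 * m)) R),
      (∀ i j : Fin (2 * m), (j : ℕ) + 1 < i → T i j = 0) →
      pf (2 * m) T = ∏ p : Fin m, - T ⟨2 * p + 1, by omega⟩ ⟨2 * p, by omega⟩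
  | 0, _, _ => rfl
  | m + 1, T, h => by
    show pf (2 * m + 2) T = _
    rw [pf, Finset.sum_eq_single (Fin.last (2 * m))]
    · have e := pf_hessenberg m (T.submatrix (Fin.castSucc ∘ (Fin.last (2 * m)).succAbove)
        (Fin.castSucc ∘ (Fin.last (2 * m)).succAbove)) (fun i j hij => h _ _ (by
        simpa [Fin.succAbove_last] using hij))
      rw [Fin.prod_univ_castSucc, e]
      simp only [Fin.val_last, Matrix.submatrix_apply, Function.comp_apply, Fin.succAbove_last]
      rw [Odd.neg_one_pow ⟨m, rfl⟩, mul_comm]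
      congr 1
      rw [neg_one_mul]
      rfl
    · intro j _ hj
      rw [h _ _ (by
        have := Fin.val_lt_last hj
        simp only [Fin.val_last, Fin.val_castSucc]
        omega), mul_zero, zero_mul]
    · exact fun hn => absurd (Finset.mem_univ _) hn

variable (k : Type u) [Field k] (r : ℕ)

/-- The matrix of linear forms of a coefficient array. -/
noncomputable def mat {R : Type*} [CommRing R] (c : Fin (2 * r + 1) → Fin (2 * r + 1) → Fin 2 → R) :
    Matrix (Fin (2 * r + 1)) (Fin (2 * r + 1)) (MvPolynomial (Fin 2) R) :=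
  Matrix.of fun a b => ∑ l : Fin 2, MvPolynomial.C (c a b l) * MvPolynomial.X l

/-- The sub-Pfaffian deleting the index `i`. -/
noncomputable def sub {R : Type*} [CommRing R] (c : Fin (2 * r + 1) → Fin (2 * r + 1) → Fin 2 → R)
    (i : Fin (2 * r + 1)) : MvPolynomial (Fin 2) R :=
  pf (2 * r) ((mat r c).submatrix i.succAbove i.succAbove)

theorem isHomogeneous_sub {R : Type*} [CommRing R] (c : Fin (2 * r + 1) → Fin (2 * r + 1) → Fin 2 → R)
    (i : Fin (2 * r + 1)) : (sub r c i).IsHomogeneous r :=
  isHomogeneous_pf r _ fun a b => by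
    simp only [mat, Matrix.submatrix_apply, Matrix.of_apply]
    exact MvPolynomial.IsHomogeneous.sum Finset.univ _ _ fun l _ =>
      MvPolynomial.IsHomogeneous.C_mul (MvPolynomial.isHomogeneous_X R l) _

theorem map_sub' {R S : Type*} [CommRing R] [CommRing S] (f : R →+* S)
    (c : Fin (2 * r + 1) → Fin (2 * r + 1) → Fin 2 → R) (i : Fin (2 * r + 1)) :
    MvPolynomial.map f (sub r c i) = sub r (fun a b l => f (c a b l)) i := by
  simp only [sub, map_pf, mat, Matrix.submatrix_map]
  congr 2
  ext a b
  simp

/-- The exponent of `y₀^q y₁^(r-q)`. -/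
noncomputable def expo (q : Fin (r + 1)) : Fin 2 →₀ ℕ := Finsupp.single 0 (q : ℕ) + Finsupp.single 1 (r - q)

theorem expo_injective : Function.Injective (expo r) := fun q q' h => by
  have := DFunLike.congr_fun h 0
  simp [expo] at this
  exact Fin.ext this

theorem span_monomials : MvPolynomial.homogeneousSubmodule (Fin 2) k r ≤
    Submodule.span k (Set.range fun q => MvPolynomial.monomial (expo r q) (1 : k)) := by
  intro P hP
  rw [MvPolynomial.as_sum P]
  refine Submodule.sum_mem _ fun d hd => ?_
  have hdeg : d 0 + d 1 = r := by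
    have := hP (MvPolynomial.mem_support_iff.mp hd)
    simpa [Finsupp.weight_apply, Finsupp.sum_fintype, Fin.sum_univ_two] using this
  have he : d = expo r ⟨d 0, by omega⟩ := by
    ext l
    fin_cases l
    · simp [expo]
    · simp [expo]; omega
  rw [show MvPolynomial.monomial d (P.coeff d) = (P.coeff d) • MvPolynomial.monomial (expo r ⟨d 0, by omega⟩) (1 : k) by
    rw [MvPolynomial.smul_monomial, ← he, smul_eq_mul, mul_one]]
  exact Submodule.smul_mem _ _ (Submodule.subset_span ⟨_, rfl⟩)

/-- The index `2q`. -/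
def idx (q : Fin (r + 1)) : Fin (2 * r + 1) := ⟨2 * q, by omega⟩

/-- The coefficient minor. -/
noncomputable def minor {R : Type*} [CommRing R] (c : Fin (2 * r + 1) → Fin (2 * r + 1) → Fin 2 → R) :
    Matrix (Fin (r + 1)) (Fin (r + 1)) R :=
  Matrix.of fun q q' => (sub r c (idx r q)).coeff (expo r q')

theorem span_eq {c : Fin (2 * r + 1) → Fin (2 * r + 1) → Fin 2 → k} (h : (minor r c).det ≠ 0) :
    Submodule.span k (Set.range (sub r c)) = MvPolynomial.homogeneousSubmodule (Fin 2) k r := by
  classical
  refine le_antisymm (Submodule.span_le.2 (Set.range_subset_iff.2 fun i => isHomogeneous_sub r c i))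
    ((span_monomials k r).trans (Submodule.span_le.2 (Set.range_subset_iff.2 fun q'' => ?_)))
  have hv : ∀ q, sub r c (idx r q) = ∑ q', minor r c q q' • MvPolynomial.monomial (expo r q') (1 : k) := by
    intro q
    ext d
    rw [MvPolynomial.coeff_sum]
    simp only [MvPolynomial.coeff_smul, MvPolynomial.coeff_monomial, smul_eq_mul, mul_ite, mul_one, mul_zero]
    by_cases hd : ∃ q', expo r q' = d
    · obtain ⟨q', rfl⟩ := hd
      simp [(expo_injective r).eq_iff, minor]
    · push_neg at hd
      rw [Finset.sum_eq_zero fun q' _ => if_neg (hd q')]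
      by_contra hne
      have hdeg : d 0 + d 1 = r := by
        simpa [Finsupp.weight_apply, Finsupp.sum_fintype, Fin.sum_univ_two] using isHomogeneous_sub r c _ hne
      exact hd ⟨d 0, by omega⟩ (by ext l; fin_cases l <;> simp [expo]; omega)
  have hinv : (minor r c)⁻¹ * minor r c = 1 := Matrix.nonsing_inv_mul _ (isUnit_iff_ne_zero.mpr h)
  have : MvPolynomial.monomial (expo r q'') (1 : k) = ∑ q, (minor r c)⁻¹ q'' q • sub r c (idx r q) := by
    simp only [hv, Finset.smul_sum, smul_smul]
    rw [Finset.sum_comm]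
    simp only [← Finset.sum_smul, ← Matrix.mul_apply, hinv]
    simp [Matrix.one_apply, ite_smul]
  rw [this]
  exact Submodule.sum_mem _ fun q _ => Submodule.smul_mem _ _ (Submodule.subset_span ⟨_, rfl⟩)

/-- The example array. -/
def example_c (a b : Fin (2 * r + 1)) (l : Fin 2) : k :=
  if (b : ℕ) = a + 1 ∧ (a : ℕ) % 2 = l then 1 else if (a : ℕ) = b + 1 ∧ (b : ℕ) % 2 = l then -1 else 0

theorem example_alt (a b : Fin (2 * r + 1)) (l : Fin 2) : example_c k r b a l = - example_c k r a b l := by
  unfold example_c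
  split_ifs <;> first | simp | omega

theorem example_sub (q : Fin (r + 1)) :
    sub r (example_c k r) (idx r q) = MvPolynomial.monomial (expo r q) (1 : k) := by
  have hval : ∀ x : Fin (2 * r), (((idx r q).succAbove x : Fin (2 * r + 1)) : ℕ) =
      if (x : ℕ) < 2 * q then (x : ℕ) else x + 1 := by
    intro x
    rcases lt_or_ge (x : ℕ) (2 * q) with h | h
    · rw [if_pos h, Fin.succAbove_of_castSucc_lt _ _ (by exact h)]; rfl
    · rw [if_neg (not_lt.mpr h), Fin.succAbove_of_le_castSucc _ _ (by exact h)]; rfl
  rw [sub, pf_hessenberg]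
  · have hfac : ∀ p : Fin r, -((mat r (example_c k r)).submatrix (idx r q).succAbove (idx r q).succAbove)
        ⟨2 * p + 1, by omega⟩ ⟨2 * p, by omega⟩ =
        if (p : ℕ) < q then MvPolynomial.X 0 else MvPolynomial.X 1 := by
      intro p
      simp only [Matrix.submatrix_apply, mat, Matrix.of_apply, Fin.sum_univ_two, example_c, hval, Fin.val_zero, Fin.val_one]
      split_ifs <;> first | (exfalso; omega) | simp
    rw [Finset.prod_congr rfl fun p _ => hfac p, Finset.prod_ite, Finset.prod_const, Finset.prod_const]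
    have h1 : (Finset.univ.filter fun p : Fin r => (p : ℕ) < q).card = q := by
      rw [Fin.card_filter_val_lt]; omega
    have h2 : (Finset.univ.filter fun p : Fin r => ¬ (p : ℕ) < q).card = r - q := by
      have := Finset.card_filter_add_card_filter_not (s := (Finset.univ : Finset (Fin r))) (fun p => (p : ℕ) < q)
      rw [h1, Finset.card_univ, Fintype.card_fin] at this
      omega
    rw [h1, h2, MvPolynomial.X_pow_eq_monomial, MvPolynomial.X_pow_eq_monomial, MvPolynomial.monomial_mul, one_mul]
    rfl
  · intro i j hij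
    simp only [Matrix.submatrix_apply, mat, Matrix.of_apply, Fin.sum_univ_two, example_c, hval, Fin.val_zero, Fin.val_one]
    split_ifs <;> first | (exfalso; omega) | simp

end Groth.Agent.PfaffSpan
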